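import Cfsg.Agent.SixtyDegree.FewEigenvalues
import Cfsg.Agent.BlocksCharsC.RegularSupport
import Cfsg.Agent.Characters.Integrality
import Cfsg.Agent.Characters.Orthogonality
import Cfsg.Agent.Blocks.LocalRing

/-!
# The cofactor of two prime powers in the order of a simple group

For a non-abelian simple group of order `p^a q^b g₀` a character of the principal `p`-block of degree
prime to `q` restricts to an element of order `p` in the centre of a Sylow `p`-subgroup with at most
`g₀` distinct eigenvalues, so `p ≤ 6 ^ (g₀ - 1)`.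
-/

set_option autoImplicit false
set_option linter.unusedSectionVars false

namespace CfsgLib.SixtyDegree

open CfsgLib.Blocks

universe u

variable {G : Type u} [Group G] [Fintype G]

theorem isPRoot_red_eq_one {M : Ideal Cfsg.AlgInt} [M.IsPrime] {p : ℕ} [Fact p.Prime]
    (hM : Cfsg.IsPModular p M) {x : localRing M} (hx : x ^ p = 1) : red M x = 1 := by
  haveI := charP_res hM
  have h : (red M x - 1) ^ p = 0 := by
    rw [sub_pow_char, one_pow, ← map_pow, hx, map_one, sub_self]
  exact sub_eq_zero.1 (pow_eq_zero_iff (Fact.out : p.Prime).ne_zero |>.1 h)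

/-- A non-trivial character of the principal block of degree prime to `q`. -/
theorem exists_principal_degree_not_dvd {M : Ideal Cfsg.AlgInt} [M.IsPrime] {p q : ℕ}
    (hM : Cfsg.IsPModular p M) (hq : q.Prime) {z : G} (hz : p ∣ orderOf z) :
    ∃ χ : Cfsg.IrrCharacter G, χ ∈ Cfsg.principalBlock M G ∧ (χ : G → ℂ) ≠ (fun _ => 1) ∧
      ∃ d : ℕ, (χ : G → ℂ) 1 = d ∧ ¬ q ∣ d := by
  classical
  by_contra! hcon
  have h := CfsgLib.BlocksCharsC.sum_degree_mul_eq_zero hM
    (isBlockUnion_of_isPBlock CfsgLib.BlocksCharsC.isPBlock_principalBlock) hz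
    (A := Cfsg.principalBlock M G)
  choose d hd using fun χ : Cfsg.IrrCharacter G =>
    CfsgLib.Characters.exists_degree (CfsgLib.Characters.isCharacter_of_isIrr χ.2)
  set t := CfsgLib.BlocksCharsC.trivialIrr G
  rw [← Finset.add_sum_erase _ _ (Finset.mem_univ t)] at h
  have ht : t ∈ Cfsg.principalBlock M G :=
    (CfsgLib.BlocksCharsC.principalBlock_eq (M := M) (G := G)).symm ▸ mem_blockOf_self (M := M) t
  rw [if_pos ht] at h
  choose e he using fun (χ : Cfsg.IrrCharacter G) (hχ : χ ∈ Cfsg.principalBlock M G)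
    (hne : χ ≠ t) => hcon χ hχ (fun e => hne (Subtype.ext e)) (d χ) (hd χ)
  let S : ℂ := ∑ χ ∈ Finset.univ.erase t,
    if hχ : χ ∈ Cfsg.principalBlock M G ∧ χ ≠ t then (e χ hχ.1 hχ.2 : ℂ) * (χ : G → ℂ) z else 0
  have hS : IsIntegral ℤ S := by
    refine IsIntegral.sum _ fun χ _ => ?_
    split_ifs with hχ
    · have h1 : IsIntegral ℤ ((e χ hχ.1 hχ.2 : ℕ) : ℂ) := by
        simpa using (isIntegral_algebraMap (R := ℤ) (A := ℂ) (x := (e χ hχ.1 hχ.2 : ℤ)))
      refine h1.mul ?_
      obtain ⟨n, ρ, -, hρ⟩ := χ.2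
      rw [← hρ]
      exact CfsgLib.Characters.char_isIntegral ρ z
    · exact isIntegral_zero
  have hsum : (q : ℂ) * S = -1 := by
    have h1 : (q : ℂ) * S = ∑ χ ∈ Finset.univ.erase t,
        (if χ ∈ Cfsg.principalBlock M G then (χ : G → ℂ) 1 * (χ : G → ℂ) z else 0) := by
      rw [Finset.mul_sum]
      refine Finset.sum_congr rfl fun χ hχ => ?_
      have hne := (Finset.mem_erase.1 hχ).1
      by_cases hB : χ ∈ Cfsg.principalBlock M G
      · rw [dif_pos ⟨hB, hne⟩, if_pos hB, hd χ, he χ hB hne]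
        push_cast
        ring
      · rw [dif_neg fun h => hB h.1, if_neg hB, mul_zero]
    rw [h1]
    simp only [t, CfsgLib.BlocksCharsC.trivialIrr] at h ⊢
    linear_combination h
  have hint : IsIntegral ℤ (((1 : ℕ) : ℂ) / (q : ℂ)) := by
    have : ((1 : ℕ) : ℂ) / (q : ℂ) = -S := by
      rw [div_eq_iff (Nat.cast_ne_zero.2 hq.ne_zero)]
      push_cast
      linear_combination hsum
    rw [this]
    exact hS.neg
  exact hq.not_dvd_one (CfsgLib.Characters.dvd_of_isIntegral_div hq.ne_zero hint)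

theorem centralizer_pow_eq {p k : ℕ} (hp : p.Prime) {z : G} (hz : z ^ p = 1) (hk : ¬ p ∣ k) :
    Subgroup.centralizer ({z ^ k} : Set G) = Subgroup.centralizer ({z} : Set G) := by
  obtain ⟨j, hj⟩ := exists_pow_eq_self_of_coprime (x := z) (n := k)
    (Nat.Coprime.coprime_dvd_right (orderOf_dvd_of_pow_eq_one hz)
      ((hp.coprime_iff_not_dvd.2 hk).symm))
  ext g
  rw [Subgroup.mem_centralizer_singleton_iff, Subgroup.mem_centralizer_singleton_iff]
  constructor
  · intro h
    have h' : Commute g (z ^ k) := h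
    exact hj ▸ h'.pow_right j
  · exact fun h => (show Commute g z from h).pow_right k

theorem prime_le_six_pow [IsSimpleGroup G] {p q a b g₀ : ℕ} (hp : p.Prime) (hq : q.Prime)
    (hpq : p ≠ q) (ha : 0 < a) (hg : Nat.card G = p ^ a * q ^ b * g₀) (hcop : ¬ p ∣ g₀)
    (hne : Nat.card G ≠ p) : p ≤ 6 ^ (g₀ - 1) := by
  classical
  haveI := Fact.mk hp
  obtain ⟨M, hM⟩ := exists_isPModular p hp
  haveI := IsPModular.isPrime hM
  have hg0 : g₀ ≠ 0 := fun h => Nat.card_pos.ne' (by rw [hg, h, mul_zero])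
  -- `G` is non-abelian, so its centre is trivial
  have hcenter : Subgroup.center G = ⊥ := by
    refine (Subgroup.Normal.eq_bot_or_eq_top inferInstance).resolve_right fun h => ?_
    letI : CommGroup G := { ‹Group G› with
      mul_comm := fun x y => (Subgroup.mem_center_iff.1 (h ▸ Subgroup.mem_top y) x) }
    have hprime := IsSimpleGroup.prime_card (α := G)
    exact hne ((Nat.prime_dvd_prime_iff_eq hp hprime).1
      (hg ▸ ((dvd_pow_self p ha.ne').mul_right _).mul_right _)).symm
  -- a central element of order `p` in a Sylow subgroup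
  obtain ⟨P⟩ : Nonempty (Sylow p G) := inferInstance
  have hPcard : Nat.card P = p ^ a := by
    rw [P.card_eq_multiplicity, hg, mul_assoc,
      Nat.factorization_mul (pow_ne_zero _ hp.ne_zero)
        (mul_ne_zero (pow_ne_zero _ hq.ne_zero) hg0), Finsupp.add_apply, hp.factorization_pow,
      Finsupp.single_eq_same, Nat.factorization_eq_zero_of_not_dvd, add_zero]
    intro h
    rcases hp.dvd_mul.1 h with h | h
    · exact hpq ((Nat.prime_dvd_prime_iff_eq hp hq).1 (hp.dvd_of_dvd_pow h))
    · exact hcop h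
  haveI : Nontrivial (P : Subgroup G) := Finite.one_lt_card_iff_nontrivial.1
    (hPcard ▸ Nat.one_lt_pow ha.ne' hp.one_lt)
  haveI := P.isPGroup'.center_nontrivial
  obtain ⟨zz, hzz⟩ := exists_prime_orderOf_dvd_card' (G := Subgroup.center (P : Subgroup G)) p (by
    obtain ⟨k, hk⟩ := IsPGroup.iff_card.1 (P.isPGroup'.to_subgroup (Subgroup.center (P : Subgroup G)))
    have h1 : 1 < Nat.card (Subgroup.center (P : Subgroup G)) := Finite.one_lt_card
    rw [hk] at h1 ⊢
    exact dvd_pow_self p (by rintro rfl; simp at h1))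
  set z : G := ((zz : (P : Subgroup G)) : G)
  have hzord : orderOf z = p := by
    rw [← hzz, Subgroup.orderOf_coe, Subgroup.orderOf_coe]
  have hzp : z ^ p = 1 := by rw [← hzord]; exact pow_orderOf_eq_one z
  have hz1 : z ≠ 1 := fun h => hp.ne_one (by rw [← hzord, h, orderOf_one])
  set c := (Subgroup.centralizer ({z} : Set G)).index with hc
  have hcdvd : c ∣ q ^ b * g₀ := by
    have hle : (P : Subgroup G) ≤ Subgroup.centralizer ({z} : Set G) := fun x hx =>
      Subgroup.mem_centralizer_singleton_iff.2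
        (congrArg Subtype.val (Subgroup.mem_center_iff.1 zz.2 ⟨x, hx⟩))
    have h1 := Subgroup.card_mul_index (P : Subgroup G)
    rw [hPcard, hg, mul_assoc] at h1
    rw [← Nat.eq_of_mul_eq_mul_left (pow_pos hp.pos a) h1]
    exact Subgroup.index_dvd_of_le hle
  have hpc : ¬ p ∣ c := fun h => by
    rcases hp.dvd_mul.1 (h.trans hcdvd) with h | h
    · exact hpq ((Nat.prime_dvd_prime_iff_eq hp hq).1 (hp.dvd_of_dvd_pow h))
    · exact hcop h
  -- the character
  obtain ⟨χ, hχB, hχ1, D, hD, hqD⟩ :=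
    exists_principal_degree_not_dvd (M := M) hM hq (z := z) (hzord ▸ dvd_rfl)
  obtain ⟨n, ρ, hρi, hρ⟩ := χ.2
  haveI := hρi
  have hnD : n = D := by
    have h1 := Representation.char_one ρ
    rw [hρ, hD, Module.finrank_fin_fun] at h1
    exact_mod_cast h1.symm
  have hn0 : 0 < n := by
    have := CfsgLib.Characters.finrank_pos_of_isIrreducible ρ
    rwa [Module.finrank_fin_fun] at this
  subst hnD
  set h := Nat.gcd c n with hh
  have hh0 : 0 < h := Nat.gcd_pos_of_pos_right _ hn0
  have hhg : h ≤ g₀ := by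
    refine Nat.le_of_dvd (Nat.pos_of_ne_zero hg0) ?_
    have h1 : Nat.Coprime h (q ^ b) := Nat.Coprime.pow_right _ (Nat.Coprime.symm
      ((hq.coprime_iff_not_dvd).2 fun hd => hqD (hd.trans (Nat.gcd_dvd_right c n))))
    exact h1.dvd_of_dvd_mul_left ((Nat.gcd_dvd_left c n).trans hcdvd)
  obtain ⟨d, hd⟩ : h ∣ n := Nat.gcd_dvd_right c n
  obtain ⟨e, he⟩ : h ∣ c := Nat.gcd_dvd_left c n
  have hd0 : d ≠ 0 := fun h0 => hn0.ne' (by rw [hd, h0, mul_zero])
  have hdC : (d : ℂ) ≠ 0 := Nat.cast_ne_zero.2 hd0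
  have hnC : (n : ℂ) ≠ 0 := Nat.cast_ne_zero.2 hn0.ne'
  -- the values `χ(z^k)/d`
  let β : ℕ → ℂ := fun k => (χ : G → ℂ) (z ^ k) / d
  have hβ0 : β 0 = h := by
    simp only [β, pow_zero, hD]
    rw [div_eq_iff hdC, hd]
    push_cast
    ring
  have hint : ∀ k, IsIntegral ℤ (β k) := by
    intro k
    by_cases hk : p ∣ k
    · obtain ⟨j, rfl⟩ := hk
      have : β (p * j) = β 0 := by simp only [β, pow_mul, hzp, one_pow, pow_zero]
      rw [this, hβ0]
      exact isIntegral_algebraMap (R := ℤ) (x := (h : ℤ)) |> fun h => by simpa using h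
    · have hω := isIntegral_centralChar χ (z ^ k)
      rw [Cfsg.centralChar, centralizer_pow_eq hp hzp hk, ← hc, hD] at hω
      have hχint : IsIntegral ℤ ((χ : G → ℂ) (z ^ k)) := by
        rw [← hρ]; exact CfsgLib.Characters.char_isIntegral ρ _
      have hbez := Nat.gcd_eq_gcd_ab c n
      rw [← hh] at hbez
      have e1 : β k = (Nat.gcdA c n : ℂ) * ((c : ℂ) * (χ : G → ℂ) (z ^ k) / n) +
          (Nat.gcdB c n : ℂ) * (χ : G → ℂ) (z ^ k) := by
        have hbezC : ((h : ℤ) : ℂ) = ((c : ℤ) : ℂ) * (Nat.gcdA c n : ℂ) +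
            ((n : ℤ) : ℂ) * (Nat.gcdB c n : ℂ) := by exact_mod_cast hbez
        push_cast at hbezC
        have hnd : (n : ℂ) = (h : ℂ) * d := by exact_mod_cast hd
        simp only [β]
        field_simp
        linear_combination (χ : G → ℂ) (z ^ k) * hnd +
          (χ : G → ℂ) (z ^ k) * (d : ℂ) * hbezC
      rw [e1]
      exact (((isIntegral_algebraMap (R := ℤ) (x := Nat.gcdA c n)).mul hω).add
        ((isIntegral_algebraMap (R := ℤ) (x := Nat.gcdB c n)).mul hχint)) |> fun h => by simpa using h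
  let B : ℕ → localRing M := fun k => ⟨β k, memLocalRing_of_isIntegral (hint k)⟩
  have hβred : ∀ k, red M (B k) = (h : Res M) := by
    intro k
    by_cases hk : p ∣ k
    · obtain ⟨j, rfl⟩ := hk
      have hB : B (p * j) = (h : localRing M) := Subtype.ext (by
        show β (p * j) = ((h : localRing M) : ℂ)
        simp only [β, pow_mul, hzp, one_pow, hD]
        rw [div_eq_iff hdC, hd]
        push_cast
        ring)
      rw [hB, map_natCast]
    · have hω : Cfsg.MemLocalIdeal M
          (Cfsg.centralChar (fun _ : G => (1 : ℂ)) (z ^ k) - Cfsg.centralChar (χ : G → ℂ) (z ^ k)) :=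
        hχB (z ^ k)
      rw [Cfsg.centralChar, Cfsg.centralChar, centralizer_pow_eq hp hzp hk, ← hc, hD] at hω
      have he0 : ((e : ℕ) : Res M) ≠ 0 := fun h0 =>
        hpc ((red_natCast_eq_zero_iff hM e).1 h0 |>.trans (he ▸ dvd_mul_left e h))
      have h2 : red M ((c : localRing M) - (e : localRing M) * B k) = 0 := by
        rw [red_eq_zero_iff]
        refine (congrArg (Cfsg.MemLocalIdeal M) ?_).mp hω
        show ((c : ℂ)) * 1 / 1 - (c : ℂ) * (χ : G → ℂ) (z ^ k) / n = _
        push_cast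
        simp only [B, β]
        have hcE : (c : ℂ) = (h : ℂ) * e := by exact_mod_cast he
        have hnd : (n : ℂ) = (h : ℂ) * d := by exact_mod_cast hd
        have hhC : (h : ℂ) ≠ 0 := Nat.cast_ne_zero.2 hh0.ne'
        rw [hcE, hnd]
        field_simp
      rw [map_sub, map_mul, map_natCast, map_natCast, he, Nat.cast_mul, mul_comm (h : Res M),
        ← mul_sub, mul_eq_zero] at h2
      exact (sub_eq_zero.1 (h2.resolve_left he0)).symm
  -- multiplicities of eigenvalues
  set ζ := Complex.exp (2 * Real.pi * Complex.I / p) with hζdef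
  have hζ : IsPrimitiveRoot ζ p := Complex.isPrimitiveRoot_exp p hp.ne_zero
  set m : ℕ → ℕ := fun i => Module.finrank ℂ (LinearMap.range (proj ρ z ζ p i)) with hm
  have htr : ∀ i, LinearMap.trace ℂ _ (proj ρ z ζ p i) = (m i : ℂ) := fun i => by
    refine LinearMap.IsProj.trace ⟨fun v => LinearMap.mem_range_self _ v, ?_⟩
    rintro _ ⟨v, rfl⟩
    exact proj_proj ρ hp hzp hζ i v
  have hdm : ∀ i, d ∣ m i := by
    intro i
    set x := ζ⁻¹ ^ i with hx
    have hxp : x ^ p = 1 := by
      rw [hx, ← pow_mul, mul_comm, pow_mul, inv_pow, hζ.pow_eq_one, inv_one, one_pow]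
    have hxint : IsIntegral ℤ x := IsIntegral.of_pow hp.pos (by rw [hxp]; exact isIntegral_one)
    have ht : ((p * m i : ℕ) : ℂ) / d = ∑ k ∈ Finset.range p, x ^ k * β k := by
      rw [Nat.cast_mul, ← htr, trace_proj, ← hx, mul_inv_cancel_left₀ (Nat.cast_ne_zero.2 hp.ne_zero),
        Finset.sum_div]
      exact Finset.sum_congr rfl fun k _ => by simp only [β, hρ, mul_div_assoc]
    have htint : IsIntegral ℤ (((p * m i : ℕ) : ℂ) / d) := by
      rw [ht]
      exact IsIntegral.sum _ fun k _ => (hxint.pow k).mul (hint k)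
    obtain ⟨t, htd⟩ := CfsgLib.Characters.dvd_of_isIntegral_div hd0 htint
    let X : localRing M := ⟨x, memLocalRing_of_isIntegral hxint⟩
    have hX : red M X = 1 := isPRoot_red_eq_one hM (Subtype.ext hxp)
    have e1 : (t : localRing M) = ∑ k ∈ Finset.range p, X ^ k * B k := by
      refine Subtype.ext ?_
      rw [htd, Nat.cast_mul, mul_div_cancel_left₀ _ hdC] at ht
      push_cast
      exact ht
    have hpt : p ∣ t := by
      rw [← red_natCast_eq_zero_iff hM, ← map_natCast (red M), e1, map_sum]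
      simp only [map_mul, map_pow, hX, one_pow, one_mul, hβred, Finset.sum_const, Finset.card_range,
        nsmul_eq_mul]
      haveI := charP_res hM
      rw [CharP.cast_eq_zero, zero_mul]
    obtain ⟨t', rfl⟩ := hpt
    exact ⟨t', Nat.eq_of_mul_eq_mul_left hp.pos (by rw [htd]; ring)⟩
  have hsum : ∑ i ∈ Finset.range p, m i = n := by
    have h1 : ∑ i ∈ Finset.range p, proj ρ z ζ p i = LinearMap.id :=
      LinearMap.ext fun v => by rw [LinearMap.sum_apply]; exact sum_proj ρ hp hζ v
    have h2 := congrArg (LinearMap.trace ℂ _) h1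
    rw [map_sum, Finset.sum_congr rfl fun i _ => htr i, LinearMap.trace_id,
      Module.finrank_fin_fun] at h2
    exact_mod_cast h2
  set E := (Finset.range p).filter fun i => m i ≠ 0 with hE
  have hEcard : E.card ≤ h := by
    have h1 : E.card * d ≤ n := by
      rw [← hsum, ← smul_eq_mul]
      refine le_trans (Finset.card_nsmul_le_sum E m d fun i hi => ?_)
        (Finset.sum_le_sum_of_subset (Finset.filter_subset _ _))
      exact Nat.le_of_dvd (Nat.pos_of_ne_zero (Finset.mem_filter.1 hi).2) (hdm i)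
    rw [hd] at h1
    exact Nat.le_of_mul_le_mul_right h1 (Nat.pos_of_ne_zero hd0)
  -- faithfulness
  have hker : ρ.ker = ⊥ := by
    refine (Subgroup.Normal.eq_bot_or_eq_top inferInstance).resolve_right fun htop => hχ1 ?_
    have hval : ∀ g : G, (χ : G → ℂ) g = (n : ℂ) := fun g => by
      have hg1 : ρ g = 1 := MonoidHom.mem_ker.1 (htop ▸ Subgroup.mem_top g)
      rw [← hρ, Representation.character, hg1, ← map_one ρ]
      exact (Representation.char_one ρ).trans (by rw [Module.finrank_fin_fun])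
    have hnorm := CfsgLib.Characters.classInner_isIrr_self χ.2
    simp only [Cfsg.classInner, hval, Complex.conj_natCast, Finset.sum_const, Finset.card_univ,
      nsmul_eq_mul, ← Nat.card_eq_fintype_card] at hnorm
    rw [inv_mul_cancel_left₀ CfsgLib.Characters.natCard_ne_zero] at hnorm
    have hn1 : n = 1 := (mul_eq_one.1 (by exact_mod_cast hnorm : n * n = 1)).1
    funext g
    rw [hval, hn1, Nat.cast_one]
  have hns : ∀ g : G, g ≠ 1 → ∀ s : ℂ, ∃ v, ρ g v ≠ s • v := by
    intro g hg s
    by_contra! hall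
    refine hg (Subgroup.mem_bot.1 (hcenter ▸ Subgroup.mem_center_iff.2 fun x => ?_))
    refine (MonoidHom.ker_eq_bot_iff ρ).1 hker ?_
    rw [map_mul, map_mul]
    refine LinearMap.ext fun v => ?_
    simp only [Module.End.mul_apply, hall, map_smul]
  refine (le_six_pow ρ hp hzp hn0 hz1 hns E fun i hi hiE => ?_).trans
    (Nat.pow_le_pow_right (by norm_num) (by omega))
  have hmi : m i = 0 := by
    by_contra h0
    exact hiE (Finset.mem_filter.2 ⟨Finset.mem_range.2 hi, h0⟩)
  exact LinearMap.range_eq_bot.1 (Submodule.finrank_eq_zero.1 hmi)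

end CfsgLib.SixtyDegree
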