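import Mathlib.RepresentationTheory.Subrepresentation
import Mathlib.RepresentationTheory.Irreducible
import Mathlib.Analysis.Complex.Basic
import Mathlib.GroupTheory.OrderOfElement
import Mathlib.GroupTheory.Subgroup.Simple

/-!
# Blichfeldt's sixty degree lemma

If an element `s` of a finite group of complex matrices has an eigenvalue `ξ` such that `s - ξ`
shrinks every vector for an invariant inner product (all eigenvalues within sixty degrees of `ξ`),
then every conjugate of `s` preserves the eigenspace of `ξ`.  In a simple group with a faithful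
irreducible representation, `s` is then a scalar.
-/

set_option autoImplicit false
set_option linter.unusedSectionVars false

namespace CfsgLib.SixtyDegree

open scoped ComplexConjugate

variable {G : Type*} [Group G] [Fintype G] {n : ℕ} (ρ : Representation ℂ G (Fin n → ℂ))

/-- An invariant inner product. -/
noncomputable def ip (v w : Fin n → ℂ) : ℂ := ∑ g : G, ∑ i, conj (ρ g v i) * ρ g w i

/-- The squared invariant norm. -/
noncomputable def nsq (v : Fin n → ℂ) : ℝ := ∑ g : G, ∑ i, ‖ρ g v i‖ ^ 2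

theorem ip_self (v : Fin n → ℂ) : ip ρ v v = (nsq ρ v : ℂ) := by
  simp only [ip, nsq, Complex.ofReal_sum, Complex.ofReal_pow, Complex.conj_mul']

theorem nsq_eq_re (v : Fin n → ℂ) : nsq ρ v = (ip ρ v v).re := by
  rw [ip_self, Complex.ofReal_re]

theorem nsq_nonneg (v : Fin n → ℂ) : 0 ≤ nsq ρ v :=
  Finset.sum_nonneg fun _ _ => Finset.sum_nonneg fun _ _ => sq_nonneg _

theorem nsq_pos {v : Fin n → ℂ} (hv : v ≠ 0) : 0 < nsq ρ v := by
  obtain ⟨i, hi⟩ : ∃ i, v i ≠ 0 := by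
    by_contra h
    push Not at h
    exact hv (funext h)
  refine Finset.sum_pos' (fun _ _ => Finset.sum_nonneg fun _ _ => sq_nonneg _)
    ⟨1, Finset.mem_univ _, Finset.sum_pos' (fun _ _ => sq_nonneg _) ⟨i, Finset.mem_univ _, ?_⟩⟩
  rw [map_one, Module.End.one_apply]
  exact pow_pos (norm_pos_iff.2 hi) 2

theorem nsq_zero : nsq ρ 0 = 0 := by simp [nsq]

theorem nsq_smul (c : ℂ) (v : Fin n → ℂ) : nsq ρ (c • v) = ‖c‖ ^ 2 * nsq ρ v := by
  simp only [nsq, map_smul, Pi.smul_apply, smul_eq_mul, norm_mul, mul_pow, Finset.mul_sum]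

theorem ip_apply (h : G) (v w : Fin n → ℂ) : ip ρ (ρ h v) (ρ h w) = ip ρ v w := by
  rw [ip, ip]
  refine Fintype.sum_equiv (Equiv.mulRight h) _ _ fun g => ?_
  simp [map_mul]

theorem nsq_apply (h : G) (v : Fin n → ℂ) : nsq ρ (ρ h v) = nsq ρ v := by
  rw [nsq_eq_re, ip_apply, ← nsq_eq_re]

theorem ip_conj_symm (v w : Fin n → ℂ) : conj (ip ρ v w) = ip ρ w v := by
  simp only [ip, map_sum, map_mul, Complex.conj_conj, mul_comm]

theorem ip_smul_left (c : ℂ) (v w : Fin n → ℂ) : ip ρ (c • v) w = conj c * ip ρ v w := by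
  simp only [ip, map_smul, Pi.smul_apply, smul_eq_mul, map_mul, Finset.mul_sum, mul_assoc]

theorem ip_smul_right (c : ℂ) (v w : Fin n → ℂ) : ip ρ v (c • w) = c * ip ρ v w := by
  simp only [ip, map_smul, Pi.smul_apply, smul_eq_mul, Finset.mul_sum, mul_left_comm]

theorem ip_sub_right (u v w : Fin n → ℂ) : ip ρ u (v - w) = ip ρ u v - ip ρ u w := by
  simp only [ip, map_sub, Pi.sub_apply, mul_sub, Finset.sum_sub_distrib]

theorem ip_sum_left {ι : Type*} (s : Finset ι) (f : ι → Fin n → ℂ) (w : Fin n → ℂ) :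
    ip ρ (∑ a ∈ s, f a) w = ∑ a ∈ s, ip ρ (f a) w := by
  simp only [ip, map_sum, Finset.sum_apply, Finset.sum_mul]
  symm
  rw [Finset.sum_comm]
  exact Finset.sum_congr rfl fun g _ => Finset.sum_comm

theorem ip_sum_right {ι : Type*} (s : Finset ι) (f : ι → Fin n → ℂ) (w : Fin n → ℂ) :
    ip ρ w (∑ a ∈ s, f a) = ∑ a ∈ s, ip ρ w (f a) := by
  rw [← ip_conj_symm, ip_sum_left, map_sum]
  exact Finset.sum_congr rfl fun a _ => ip_conj_symm ρ _ _

/-- Pythagoras. -/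
theorem nsq_sum {ι : Type*} (s : Finset ι) (f : ι → Fin n → ℂ)
    (h : ∀ a ∈ s, ∀ b ∈ s, a ≠ b → ip ρ (f a) (f b) = 0) :
    nsq ρ (∑ a ∈ s, f a) = ∑ a ∈ s, nsq ρ (f a) := by
  rw [nsq_eq_re, ip_sum_left, Complex.re_sum]
  refine Finset.sum_congr rfl fun a ha => ?_
  rw [ip_sum_right, Finset.sum_eq_single a (fun b hb hne => h a ha b hb hne.symm)
    (fun h' => absurd ha h'), ← nsq_eq_re]

/-- Vectors fixed up to the scalar `ξ`. -/
noncomputable def eig (s : G) (ξ : ℂ) : Submodule ℂ (Fin n → ℂ) :=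
  LinearMap.ker (ρ s - ξ • 1)

theorem mem_eig {s : G} {ξ : ℂ} {v : Fin n → ℂ} : v ∈ eig ρ s ξ ↔ ρ s v = ξ • v := by
  simp [eig, sub_eq_zero]

open Classical in
/-- **Blichfeldt**: every conjugate of `s` preserves the `ξ`-eigenspace. -/
theorem conj_preserves_eig (s : G) {ξ : ℂ} (hξ : ‖ξ‖ = 1)
    (hs : ∀ x : Fin n → ℂ, x ≠ 0 → nsq ρ (ρ s x - ξ • x) < nsq ρ x) (g : G) :
    ∀ w ∈ eig ρ s ξ, ρ (g * s * g⁻¹) w ∈ eig ρ s ξ := by
  set W := eig ρ s ξ with hW
  by_contra hcon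
  have hξ0 : ξ ≠ 0 := fun h => by rw [h, norm_zero] at hξ; exact zero_ne_one hξ
  let b := Module.finBasis ℂ W
  let Φ : G → ℝ := fun g => ∑ a, nsq ρ (ρ (g * s * g⁻¹) (b a : Fin n → ℂ) - ξ • (b a : Fin n → ℂ))
  let S : Finset G := Finset.univ.filter fun g => ¬ ∀ w ∈ W, ρ (g * s * g⁻¹) w ∈ W
  obtain ⟨g₀, hg₀, hmin⟩ := Finset.exists_min_image S Φ
    ⟨g, Finset.mem_filter.2 ⟨Finset.mem_univ _, hcon⟩⟩
  set B := g₀ * s * g₀⁻¹ with hB
  have hBnot : ¬ ∀ w ∈ W, ρ B w ∈ W := (Finset.mem_filter.1 hg₀).2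
  set u := s * B⁻¹ with hu
  have hinvs : ∀ w ∈ W, ρ s⁻¹ w = ξ⁻¹ • w := fun w hw => by
    conv_lhs => rw [← inv_smul_smul₀ hξ0 w, ← (mem_eig ρ).1 hw, map_smul, ρ.inv_self_apply]
  have hkey : ∀ w ∈ W, ρ (u * s * u⁻¹) w - ξ • w =
      ξ⁻¹ • ρ (s * B⁻¹) (ρ s (ρ B w) - ξ • ρ B w) := by
    intro w hw
    have e1 : u * s * u⁻¹ = s * B⁻¹ * (s * (B * s⁻¹)) := by rw [hu]; group
    have e2 : ρ (s * B⁻¹) (ρ B w) = ξ • w := by
      rw [← Module.End.mul_apply, ← map_mul, inv_mul_cancel_right, (mem_eig ρ).1 hw]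
    rw [e1, map_mul, Module.End.mul_apply, map_mul, Module.End.mul_apply, map_mul,
      Module.End.mul_apply, map_mul, Module.End.mul_apply, hinvs w hw]
    simp only [← map_mul, ← Module.End.mul_apply] at e2 ⊢
    simp only [map_mul, Module.End.mul_apply] at e2 ⊢
    rw [map_smul, map_smul, map_smul, map_smul, map_sub, map_sub, map_smul, map_smul, e2,
      smul_sub, smul_smul, smul_smul, inv_mul_cancel₀ hξ0, one_mul]
  have hle : ∀ w ∈ W, nsq ρ (ρ (u * s * u⁻¹) w - ξ • w) ≤ nsq ρ (ρ B w - ξ • w) ∧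
      (ρ B w ∉ W → nsq ρ (ρ (u * s * u⁻¹) w - ξ • w) < nsq ρ (ρ B w - ξ • w)) := by
    intro w hw
    have e : ρ s (ρ B w) - ξ • ρ B w =
        ρ s (ρ B w - ξ • w) - ξ • (ρ B w - ξ • w) := by
      rw [map_sub, map_smul, (mem_eig ρ).1 hw, smul_sub]
      abel
    have hn : nsq ρ (ρ (u * s * u⁻¹) w - ξ • w) =
        nsq ρ (ρ s (ρ B w - ξ • w) - ξ • (ρ B w - ξ • w)) := by
      rw [hkey w hw, nsq_smul, nsq_apply, e, norm_inv, hξ, inv_one, one_pow, one_mul]
    rw [hn]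
    by_cases h0 : ρ B w - ξ • w = 0
    · refine ⟨by rw [h0, map_zero, smul_zero, sub_zero], fun hnot => absurd ?_ hnot⟩
      rw [sub_eq_zero.1 h0]
      exact W.smul_mem ξ hw
    · exact ⟨(hs _ h0).le, fun _ => hs _ h0⟩
  have hex : ∃ a, ρ B (b a : Fin n → ℂ) ∉ W := by
    by_contra! hall
    refine hBnot fun w hw => ?_
    have hsum := congrArg Subtype.val (b.sum_repr ⟨w, hw⟩)
    simp only [AddSubmonoidClass.coe_finsetSum, Submodule.coe_smul] at hsum
    rw [← hsum, map_sum]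
    exact W.sum_mem fun a _ => by rw [map_smul]; exact W.smul_mem _ (hall a)
  have hlt : Φ u < Φ g₀ := by
    obtain ⟨a, ha⟩ := hex
    exact Finset.sum_lt_sum (fun a _ => (hle _ (b a).2).1) ⟨a, Finset.mem_univ _, (hle _ (b a).2).2 ha⟩
  have hu' : ∀ w ∈ W, ρ (u * s * u⁻¹) w ∈ W := by
    by_contra h
    exact absurd (hmin u (Finset.mem_filter.2 ⟨Finset.mem_univ _, h⟩)) (not_le.2 hlt)
  obtain ⟨a, ha⟩ := hex
  set w : Fin n → ℂ := (b a : Fin n → ℂ)
  have hw : w ∈ W := (b a).2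
  -- `s` preserves `B W`
  have hsB : ρ (B⁻¹ * s * B) w ∈ W := by
    have h1 := hu' (ξ • w) (W.smul_mem ξ hw)
    rw [show u * s * u⁻¹ = s * (B⁻¹ * s * B) * s⁻¹ by rw [hu]; group, map_mul, Module.End.mul_apply,
      map_smul, hinvs w hw, smul_inv_smul₀ hξ0, map_mul, Module.End.mul_apply] at h1
    have h2 : ρ s (ρ (B⁻¹ * s * B) w) = ρ s (ρ (B⁻¹ * s * B) w) := rfl
    have h3 : ρ (B⁻¹ * s * B) w = ξ⁻¹ • ρ s (ρ (B⁻¹ * s * B) w) := by
      have := hinvs _ h1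
      rwa [ρ.inv_self_apply] at this
    rw [h3]
    exact W.smul_mem _ h1
  set w₀ := ρ (B⁻¹ * s * B) w - ξ • w with hw₀
  have hw₀W : w₀ ∈ W := W.sub_mem hsB (W.smul_mem ξ hw)
  set x := ρ B w
  have hy : ρ B w₀ = ρ s x - ξ • x := by
    rw [hw₀, map_sub, map_smul, ← Module.End.mul_apply, ← map_mul,
      show B * (B⁻¹ * s * B) = s * B by group, map_mul, Module.End.mul_apply]
  have hy0 : ρ s x - ξ • x ≠ 0 := fun h => ha ((mem_eig ρ).2 (sub_eq_zero.1 h))
  have hw0 : w₀ ≠ 0 := fun h => hy0 (by rw [← hy, h, map_zero])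
  have hxi : conj ξ = ξ⁻¹ := (Complex.inv_eq_conj hξ).symm
  have horth : ip ρ w₀ (ρ B w₀) = 0 := by
    rw [hy, ip_sub_right, ip_smul_right]
    have h1 : ip ρ (ρ s w₀) (ρ s x) = ip ρ w₀ x := ip_apply ρ s w₀ x
    rw [(mem_eig ρ).1 hw₀W, ip_smul_left, hxi] at h1
    rw [← h1, ← mul_assoc, mul_inv_cancel₀ hξ0, one_mul, sub_self]
  have hBw : nsq ρ (ρ B w₀ - ξ • w₀) = 2 * nsq ρ w₀ := by
    have hz1 : ip ρ (ρ B w₀) w₀ = 0 := by rw [← ip_conj_symm, horth, map_zero]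
    have hsub : ∀ (p q r : Fin n → ℂ), ip ρ (p - q) r = ip ρ p r - ip ρ q r := fun p q r => by
      rw [← ip_conj_symm, ip_sub_right, map_sub, ip_conj_symm, ip_conj_symm]
    rw [nsq_eq_re, hsub, ip_sub_right, ip_sub_right, ip_smul_left, ip_smul_right, ip_smul_left,
      ip_smul_right, horth, hz1, ip_apply, hxi, ← mul_assoc ξ⁻¹, inv_mul_cancel₀ hξ0, one_mul]
    simp [ip_self, two_mul]
  have hBs : nsq ρ (ρ B w₀ - ξ • w₀) < nsq ρ w₀ := by
    have hz : ρ g₀⁻¹ w₀ ≠ 0 := fun h => hw0 (by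
      have := ρ.self_inv_apply g₀ w₀
      rw [h, map_zero] at this
      exact this.symm)
    have h1 := hs _ hz
    rw [nsq_apply] at h1
    refine lt_of_eq_of_lt ?_ h1
    have key : ∀ v, ρ g₀ (ρ s (ρ g₀⁻¹ v) - ξ • ρ g₀⁻¹ v) = ρ B v - ξ • v := fun v => by
      rw [map_sub, map_smul, ρ.self_inv_apply, hB, map_mul, Module.End.mul_apply, map_mul,
        Module.End.mul_apply]
    rw [← nsq_apply ρ g₀ (ρ s (ρ g₀⁻¹ w₀) - ξ • ρ g₀⁻¹ w₀), key]
  rw [hBw] at hBs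
  linarith [nsq_nonneg ρ w₀]

/-- In a simple group an element with an eigenvalue within sixty degrees of all others is a
scalar. -/
theorem eq_scalar_of_simple [IsSimpleGroup G] [ρ.IsIrreducible] (s : G) (hs1 : s ≠ 1) {ξ : ℂ}
    (hξ : ‖ξ‖ = 1) (hs : ∀ x : Fin n → ℂ, x ≠ 0 → nsq ρ (ρ s x - ξ • x) < nsq ρ x)
    (hne : eig ρ s ξ ≠ ⊥) : ∀ v, ρ s v = ξ • v := by
  have hN : Subgroup.normalClosure ({s} : Set G) = ⊤ :=
    (Subgroup.normalClosure_normal.eq_bot_or_eq_top).resolve_left fun h => hs1 <| by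
      have : s ∈ Subgroup.normalClosure ({s} : Set G) :=
        Subgroup.subset_normalClosure (Set.mem_singleton s)
      rw [h] at this
      exact Subgroup.mem_bot.1 this
  have hall : ∀ h : G, ∀ w ∈ eig ρ s ξ, ρ h w ∈ eig ρ s ξ := by
    intro h
    have hh : h ∈ Subgroup.normalClosure ({s} : Set G) := hN ▸ Subgroup.mem_top h
    refine Subgroup.closure_induction (p := fun h _ => ∀ w ∈ eig ρ s ξ, ρ h w ∈ eig ρ s ξ)
      ?_ ?_ ?_ ?_ hh
    · intro x hx
      obtain ⟨a, ha, hc⟩ := Group.mem_conjugatesOfSet_iff.1 hx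
      rw [Set.mem_singleton_iff] at ha
      subst ha
      obtain ⟨c, rfl⟩ := isConj_iff.1 hc
      exact conj_preserves_eig ρ a hξ hs c
    · intro w hw; rwa [map_one, Module.End.one_apply]
    · intro a b _ _ ha hb w hw
      rw [map_mul, Module.End.mul_apply]; exact ha _ (hb w hw)
    · intro a _ ha w hw
      have hinj : Function.Injective (ρ a) :=
        Function.LeftInverse.injective (g := ρ a⁻¹) (ρ.inv_self_apply a)
      have heq : (eig ρ s ξ).map (ρ a) = eig ρ s ξ :=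
        Submodule.eq_of_le_of_finrank_eq (Submodule.map_le_iff_le_comap.2 ha)
          (Submodule.equivMapOfInjective (ρ a) hinj (eig ρ s ξ)).finrank_eq.symm
      obtain ⟨z, hz, rfl⟩ : w ∈ (eig ρ s ξ).map (ρ a) := by rw [heq]; exact hw
      rwa [ρ.inv_self_apply]
  let W' : Subrepresentation ρ := ⟨eig ρ s ξ, fun h w hw => hall h w hw⟩
  rcases IsSimpleOrder.eq_bot_or_eq_top W' with h | h
  · exact absurd (congrArg Subrepresentation.toSubmodule h) hne
  · intro v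
    exact (mem_eig ρ).1 (show v ∈ W'.toSubmodule by rw [h]; exact Submodule.mem_top)

end CfsgLib.SixtyDegree
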