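import Cfsg.Agent.SixtyDegree.Basic
import Mathlib.RingTheory.RootsOfUnity.Complex
import Mathlib.Analysis.SpecialFunctions.Trigonometric.Bounds
import Mathlib.LinearAlgebra.Trace
import Mathlib.RepresentationTheory.Character
import Mathlib.Combinatorics.Pigeonhole

/-!
# An element of prime order with few distinct eigenvalues

In a simple group with a faithful irreducible representation, an element of prime order `p` with at
most `h` distinct eigenvalues forces `p ≤ 6 ^ (h - 1)`.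
-/

set_option autoImplicit false
set_option linter.unusedSectionVars false

namespace CfsgLib.SixtyDegree

open scoped ComplexConjugate

variable {G : Type*} [Group G] [Fintype G] {n : ℕ} (ρ : Representation ℂ G (Fin n → ℂ))
  {p : ℕ} (z : G) (ζ : ℂ)

/-- The projection on the `ζ ^ i`-eigenspace of `z`. -/
noncomputable def proj (p : ℕ) (i : ℕ) : (Fin n → ℂ) →ₗ[ℂ] (Fin n → ℂ) :=
  (p : ℂ)⁻¹ • ∑ k ∈ Finset.range p, (ζ⁻¹ ^ i) ^ k • ρ (z ^ k)

variable {z ζ} (hp : p.Prime) (hz : z ^ p = 1) (hζ : IsPrimitiveRoot ζ p)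

include hp hz hζ in
theorem apply_proj (i : ℕ) (v : Fin n → ℂ) :
    ρ z (proj ρ z ζ p i v) = ζ ^ i • proj ρ z ζ p i v := by
  have hz0 : ζ ≠ 0 := hζ.ne_zero hp.ne_zero
  set e := ζ⁻¹ ^ i with he
  have hei : ζ ^ i * e = 1 := by rw [he, inv_pow, mul_inv_cancel₀ (pow_ne_zero _ hz0)]
  have hep : e ^ p = 1 := by rw [he, ← pow_mul, mul_comm, pow_mul, inv_pow, hζ.pow_eq_one, inv_one, one_pow]
  simp only [proj, LinearMap.smul_apply, LinearMap.sum_apply, map_smul, map_sum, Finset.smul_sum,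
    smul_smul]
  have h1 : ∀ k, ρ z (ρ (z ^ k) v) = ρ (z ^ (k + 1)) v := fun k => by
    rw [pow_succ', map_mul, Module.End.mul_apply]
  simp only [h1]
  calc ∑ k ∈ Finset.range p, ((p : ℂ)⁻¹ * e ^ k) • ρ (z ^ (k + 1)) v
      = ∑ k ∈ Finset.range p, (ζ ^ i * ((p : ℂ)⁻¹ * e ^ (k + 1))) • ρ (z ^ (k + 1)) v := by
        refine Finset.sum_congr rfl fun k _ => ?_
        congr 1
        rw [pow_succ]
        linear_combination (norm := ring_nf) -((p : ℂ)⁻¹ * e ^ k) * hei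
    _ = ∑ k ∈ Finset.range p, (ζ ^ i * ((p : ℂ)⁻¹ * e ^ k)) • ρ (z ^ k) v := by
        have h2 := Finset.sum_range_succ' (fun k => (ζ ^ i * ((p : ℂ)⁻¹ * e ^ k)) • ρ (z ^ k) v) p
        have h3 := Finset.sum_range_succ (fun k => (ζ ^ i * ((p : ℂ)⁻¹ * e ^ k)) • ρ (z ^ k) v) p
        rw [h2] at h3
        simp only [hep, hz, pow_zero] at h3
        exact add_right_cancel h3

include hp hz hζ in
theorem pow_apply_proj (i k : ℕ) (v : Fin n → ℂ) :
    ρ (z ^ k) (proj ρ z ζ p i v) = ζ ^ (i * k) • proj ρ z ζ p i v := by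
  induction k with
  | zero => simp
  | succ k ih =>
    rw [pow_succ', map_mul, Module.End.mul_apply, ih, map_smul, apply_proj ρ hp hz hζ, smul_smul,
      ← pow_add]
    congr 2

include hp hz hζ in
theorem proj_proj (i : ℕ) (v : Fin n → ℂ) :
    proj ρ z ζ p i (proj ρ z ζ p i v) = proj ρ z ζ p i v := by
  set w := proj ρ z ζ p i v with hw
  conv_lhs => rw [proj]
  simp only [LinearMap.smul_apply, LinearMap.sum_apply]
  rw [Finset.sum_congr rfl fun k _ => show (ζ⁻¹ ^ i) ^ k • ρ (z ^ k) w = w by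
    rw [hw, pow_apply_proj ρ hp hz hζ, smul_smul, ← pow_mul, ← mul_pow,
      inv_mul_cancel₀ (hζ.ne_zero hp.ne_zero), one_pow, one_smul]]
  rw [Finset.sum_const, Finset.card_range, ← Nat.cast_smul_eq_nsmul ℂ, smul_smul,
    inv_mul_cancel₀ (Nat.cast_ne_zero.2 hp.ne_zero), one_smul]

include hp hζ in
theorem sum_proj (v : Fin n → ℂ) : ∑ i ∈ Finset.range p, proj ρ z ζ p i v = v := by
  simp only [proj, LinearMap.smul_apply, LinearMap.sum_apply, Finset.smul_sum, smul_smul]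
  rw [Finset.sum_comm]
  simp only [← Finset.sum_smul, ← Finset.mul_sum]
  rw [Finset.sum_eq_single 0]
  · simp [Finset.sum_const, inv_mul_cancel₀ (Nat.cast_ne_zero (R := ℂ).2 hp.ne_zero)]
  · intro k hk hk0
    have he : ζ⁻¹ ^ k ≠ 1 := by
      rw [inv_pow, Ne, inv_eq_one]
      exact hζ.pow_ne_one_of_pos_of_lt hk0 (Finset.mem_range.1 hk)
    have h1 : ∑ i ∈ Finset.range p, (ζ⁻¹ ^ i) ^ k = 0 := by
      rw [Finset.sum_congr rfl fun i _ => show (ζ⁻¹ ^ i) ^ k = (ζ⁻¹ ^ k) ^ i by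
        rw [← pow_mul, ← pow_mul, mul_comm], geom_sum_eq he, ← pow_mul, mul_comm, pow_mul,
        inv_pow, hζ.pow_eq_one, inv_one, one_pow, sub_self, zero_div]
    rw [h1, mul_zero, zero_smul]
  · simp [hp.pos]

theorem trace_proj (i : ℕ) :
    LinearMap.trace ℂ _ (proj ρ z ζ p i) =
      (p : ℂ)⁻¹ * ∑ k ∈ Finset.range p, (ζ⁻¹ ^ i) ^ k * ρ.character (z ^ k) := by
  simp [proj, map_sum, Representation.character]

include hp hz hζ in
theorem ip_proj_proj {i l : ℕ} (hi : i < p) (hl : l < p) (hil : i ≠ l) (v : Fin n → ℂ) :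
    ip ρ (proj ρ z ζ p i v) (proj ρ z ζ p l v) = 0 := by
  have h1 := ip_apply ρ z (proj ρ z ζ p i v) (proj ρ z ζ p l v)
  rw [apply_proj ρ hp hz hζ, apply_proj ρ hp hz hζ, ip_smul_left, ip_smul_right, ← mul_assoc] at h1
  by_contra h0
  have h2 := (mul_eq_right₀ h0).1 h1
  rw [map_pow, ← Complex.inv_eq_conj (hζ.norm'_eq_one hp.ne_zero), inv_pow,
    inv_mul_eq_one₀ (pow_ne_zero _ (hζ.ne_zero hp.ne_zero))] at h2
  exact hil (hζ.pow_inj hi hl h2)

theorem norm_exp_sub_one_lt {θ : ℝ} (h0 : 0 ≤ θ) (h1 : θ < Real.pi / 3) :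
    ‖Complex.exp (Complex.I * θ) - 1‖ < 1 := by
  rw [Complex.norm_exp_I_mul_ofReal_sub_one, Real.norm_eq_abs]
  have hs : Real.sin (θ / 2) < 1 / 2 := by
    rw [← Real.sin_pi_div_six]
    exact Real.sin_lt_sin_of_lt_of_le_pi_div_two (by linarith [Real.pi_pos])
      (by linarith [Real.pi_pos]) (by linarith)
  have hs0 : 0 ≤ Real.sin (θ / 2) :=
    Real.sin_nonneg_of_nonneg_of_le_pi (by linarith) (by linarith [Real.pi_pos])
  rw [abs_of_nonneg (by linarith)]
  linarith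

include hp hz in
/-- An element of order `p` with at most `h` eigenvalues in a faithful irreducible representation
of a non-abelian simple group: `p ≤ 6 ^ (h - 1)`. -/
theorem le_six_pow [IsSimpleGroup G] [ρ.IsIrreducible] (hn : 0 < n) (hz1 : z ≠ 1)
    (hns : ∀ g : G, g ≠ 1 → ∀ c : ℂ, ∃ v, ρ g v ≠ c • v)
    (E : Finset ℕ) (hE : ∀ i, i < p → i ∉ E →
      proj ρ z (Complex.exp (2 * Real.pi * Complex.I / p)) p i = 0) :
    p ≤ 6 ^ (E.card - 1) := by
  classical
  set ζ := Complex.exp (2 * Real.pi * Complex.I / p) with hζdef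
  have hζ : IsPrimitiveRoot ζ p := Complex.isPrimitiveRoot_exp p hp.ne_zero
  have hp0 : (p : ℂ) ≠ 0 := Nat.cast_ne_zero.2 hp.ne_zero
  -- some eigenvalue occurs
  obtain ⟨i₀, hi₀, hne⟩ : ∃ i₀ ∈ Finset.range p, proj ρ z ζ p i₀ ≠ 0 := by
    by_contra! hall
    haveI : Nonempty (Fin n) := ⟨⟨0, hn⟩⟩
    obtain ⟨v, hv⟩ := exists_ne (0 : Fin n → ℂ)
    refine hv ?_
    rw [← sum_proj ρ hp hζ (z := z) v]
    exact Finset.sum_eq_zero fun i hi => by rw [hall i hi, LinearMap.zero_apply]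
  have hi₀E : i₀ ∈ E := by
    by_contra h
    exact hne (hE i₀ (Finset.mem_range.1 hi₀) h)
  by_contra hlt
  push Not at hlt
  have hi₀p := Finset.mem_range.1 hi₀
  let r : ℕ → ℕ → ℕ := fun k i => k * (i + p - i₀) % p
  have hr : ∀ k i, r k i < p := fun k i => Nat.mod_lt _ hp.pos
  let f : Fin p → (↥(E.erase i₀) → Fin 6) := fun k i =>
    ⟨6 * r k i / p, Nat.div_lt_of_lt_mul (by have := hr k i; linarith)⟩
  obtain ⟨k₁, k₂, hk, hf⟩ : ∃ k₁ k₂ : Fin p, k₂ < k₁ ∧ f k₁ = f k₂ := by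
    obtain ⟨a, b, hab, he⟩ := Fintype.exists_ne_map_eq_of_card_lt f (by
      rw [Fintype.card_fun, Fintype.card_fin, Fintype.card_fin, Fintype.card_coe,
        Finset.card_erase_of_mem hi₀E]
      exact hlt)
    rcases lt_or_gt_of_ne hab with h | h
    · exact ⟨b, a, h, he.symm⟩
    · exact ⟨a, b, h, he⟩
  set m := k₁.val - k₂.val with hm
  have hk' : k₂.val < k₁.val := hk
  have hm0 : m ≠ 0 := by omega
  have hmp : m < p := by have := k₁.isLt; omega
  set s := z ^ m with hs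
  have hs1 : s ≠ 1 := by
    intro h
    haveI := Fact.mk hp
    have hord : orderOf z = p := orderOf_eq_prime hz hz1
    have h1 := orderOf_dvd_of_pow_eq_one h
    rw [hord] at h1
    exact hm0 (Nat.eq_zero_of_dvd_of_lt h1 hmp)
  set ξ := ζ ^ (i₀ * m) with hξ
  have hnorm : ∀ a : ℕ, ‖ζ ^ a‖ = 1 := fun a => by
    rw [norm_pow, hζ.norm'_eq_one hp.ne_zero, one_pow]
  have hsmall : ∀ a : ℕ, 6 * a < p → ‖ζ ^ a - 1‖ < 1 := by
    intro a ha
    have e : ζ ^ a = Complex.exp (Complex.I * ((2 * Real.pi * a / p : ℝ) : ℂ)) := by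
      rw [hζdef, ← Complex.exp_nat_mul]
      congr 1
      push_cast
      ring
    rw [e]
    have hpr : (0 : ℝ) < p := Nat.cast_pos.2 hp.pos
    refine norm_exp_sub_one_lt (by positivity) ?_
    rw [div_lt_div_iff₀ hpr (by norm_num)]
    have hcast : (6 : ℝ) * a < p := by exact_mod_cast ha
    nlinarith [Real.pi_pos]
  have hclose : ∀ i, i < p → i ∈ E → ‖ζ ^ (i * m) - ξ‖ < 1 := by
    intro i hi hiE
    by_cases hii : i = i₀
    · subst hii; simp [hξ]
    have heq := congrArg Fin.val (congrFun hf ⟨i, Finset.mem_erase.2 ⟨hii, hiE⟩⟩)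
    simp only [f] at heq
    -- the two residues
    have hpow : ∀ k, ζ ^ r k i = ζ ^ (k * (i + p - i₀)) := fun k => by
      conv_rhs => rw [← Nat.mod_add_div (k * (i + p - i₀)) p, pow_add, pow_mul, hζ.pow_eq_one,
        one_pow, mul_one]
    have hζ0 : ζ ≠ 0 := hζ.ne_zero hp.ne_zero
    have hdiff : ζ ^ (i * m) * ζ ^ r k₂ i = ξ * ζ ^ r k₁ i := by
      rw [hpow, hpow, hξ, ← pow_add, ← pow_add]
      have hsub : i + p - i₀ + i₀ = i + p := by omega
      have hk12 : k₁.val = m + k₂.val := by omega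
      have e : i₀ * m + k₁.val * (i + p - i₀) = i * m + k₂.val * (i + p - i₀) + p * m := by
        rw [hk12, add_mul]
        calc i₀ * m + (m * (i + p - i₀) + k₂.val * (i + p - i₀))
            = m * (i + p - i₀ + i₀) + k₂.val * (i + p - i₀) := by ring
          _ = i * m + k₂.val * (i + p - i₀) + p * m := by rw [hsub]; ring
      rw [e, pow_add (m := i * m + _) (n := p * m), pow_mul, hζ.pow_eq_one, one_pow, mul_one]
    have h1 := Nat.div_add_mod (6 * r k₁ i) p
    have h2 := Nat.div_add_mod (6 * r k₂ i) p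
    have h3 := Nat.mod_lt (6 * r k₁ i) hp.pos
    have h4 := Nat.mod_lt (6 * r k₂ i) hp.pos
    rw [heq] at h1
    rcases le_total (r k₂ i) (r k₁ i) with hle | hle
    · obtain ⟨a, ha⟩ := Nat.exists_eq_add_of_le hle
      have h6 : 6 * a < p := by omega
      rw [ha, pow_add, mul_comm (ζ ^ r k₂ i), ← mul_assoc] at hdiff
      rw [mul_right_cancel₀ (pow_ne_zero _ hζ0) hdiff, ← mul_sub_one, norm_mul, hξ, hnorm, one_mul]
      exact hsmall a h6
    · obtain ⟨a, ha⟩ := Nat.exists_eq_add_of_le hle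
      have h6 : 6 * a < p := by omega
      rw [ha, pow_add, mul_comm (ζ ^ r k₁ i), ← mul_assoc] at hdiff
      rw [← mul_right_cancel₀ (pow_ne_zero _ hζ0) hdiff, ← mul_one_sub, norm_mul, hnorm, one_mul,
        norm_sub_rev]
      exact hsmall a h6
  have hS : ∀ x : Fin n → ℂ, x ≠ 0 → nsq ρ (ρ s x - ξ • x) < nsq ρ x := by
    intro x hx
    have hxs := sum_proj ρ hp hζ (z := z) x
    have e : ρ s x - ξ • x =
        ∑ i ∈ Finset.range p, (ζ ^ (i * m) - ξ) • proj ρ z ζ p i x := by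
      conv_lhs => rw [← hxs, map_sum, Finset.smul_sum, ← Finset.sum_sub_distrib]
      exact Finset.sum_congr rfl fun i _ => by rw [hs, pow_apply_proj ρ hp hz hζ, sub_smul]
    have hor : ∀ a ∈ Finset.range p, ∀ b ∈ Finset.range p, a ≠ b →
        ip ρ (proj ρ z ζ p a x) (proj ρ z ζ p b x) = 0 := fun a ha b hb hab =>
      ip_proj_proj ρ hp hz hζ (Finset.mem_range.1 ha) (Finset.mem_range.1 hb) hab x
    conv_rhs => rw [← hxs]
    rw [e, nsq_sum ρ _ _ (fun a ha b hb hab => by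
      rw [ip_smul_left, ip_smul_right, hor a ha b hb hab, mul_zero, mul_zero]),
      nsq_sum ρ _ _ hor]
    obtain ⟨i, hi, hix⟩ : ∃ i ∈ Finset.range p, proj ρ z ζ p i x ≠ 0 := by
      by_contra! hall
      exact hx (hxs ▸ Finset.sum_eq_zero hall)
    refine Finset.sum_lt_sum (fun a ha => ?_) ⟨i, hi, ?_⟩
    · rw [nsq_smul]
      by_cases haE : a ∈ E
      · exact mul_le_of_le_one_left (nsq_nonneg _ _)
          (pow_le_one₀ (norm_nonneg _) (hclose a (Finset.mem_range.1 ha) haE).le)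
      · rw [hE a (Finset.mem_range.1 ha) haE, LinearMap.zero_apply, nsq_zero, mul_zero]
    · rw [nsq_smul]
      have hiE : i ∈ E := by
        by_contra h
        exact hix (by rw [hE i (Finset.mem_range.1 hi) h, LinearMap.zero_apply])
      exact mul_lt_of_lt_one_left (nsq_pos ρ hix)
        (pow_lt_one₀ (norm_nonneg _) (hclose i (Finset.mem_range.1 hi) hiE) two_ne_zero)
  have hne' : eig ρ s ξ ≠ ⊥ := by
    obtain ⟨v, hv⟩ : ∃ v, proj ρ z ζ p i₀ v ≠ 0 := by
      by_contra! hall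
      exact hne (LinearMap.ext hall)
    intro hb
    refine hv ?_
    have : proj ρ z ζ p i₀ v ∈ eig ρ s ξ :=
      (mem_eig ρ).2 (by rw [hs, pow_apply_proj ρ hp hz hζ])
    rwa [hb, Submodule.mem_bot] at this
  obtain ⟨v, hv⟩ := hns s hs1 ξ
  exact hv (eq_scalar_of_simple ρ s hs1 (hnorm _) hS hne' v)

end CfsgLib.SixtyDegree
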